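import Mathlib
import Cfsg.Prelude.Def_Classical
import Cfsg.Agent.Lib.helper17.SLP.Defs
import Cfsg.Agent.Lib.Helper25.SU3P.Defs

/-!
# Project U3P (designer helper19): S2289 (10u).  `SU₃(q)` (`q ∉ {2, 3, 5}`) has a presentation with
3 generators and at most 23 relations, `PSU₃(q)` one with 3 generators and at most 24 relations.

Generators (in hyperbolic coordinates, Hermitian form `antidiag(1,1,1)`, `σ x = x^q`):
`u = u(1, β₀) = [[1,1,β₀],[0,1,-1],[0,0,1]]` (`β₀ + σ β₀ + 1 = 0`),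
`h = h(ζ) = diag(ζ, σζ/ζ, 1/σζ)` (`ζ` a generator of `Fˣ`),
`w = antidiag(γ₀, 1, -γ₀⁻¹)` with `x(γ₀) = z0 := [u, h^(q-1) u h^-(q-1)]`.
`h u(α,β) h⁻¹ = u(al·α, bl·β)` with `al = ζ²/σζ`, `bl = ζ·σζ`; `ν = al^(q-1)`, `γ₀ = ν - σν`.

The long root group `Z = {x(γ₀ t) : t ∈ K}` (`K` the fixed field of `σ`, `|K| = q`) and `w` generate
`L ≅ SL₂(K)` through `ρ [[A,B],[C,D]] = [[A,0,γ₀B],[0,1,0],[γ₀⁻¹C,0,D]]`; the `SL₂(K)` relators of
SLP/SP4 (`sl_hom`) are imposed on `(z0, h^(q+1), w)`.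
-/

set_option autoImplicit false

namespace Cfsg.Agent.Lib.Helper19.U3P

open Cfsg.Agent.Lib.helper17.SLP Cfsg.Agent.Lib.helper14.SU3J Cfsg.Agent.Lib.Helper25.SU3P
open Polynomial Matrix

universe u v

/-- `SL₂(K)`. -/
abbrev SL2 (K : Type u) [Field K] := Matrix.SpecialLinearGroup (Fin 2) K

section Words

variable {G : Type u} [Group G]

/-- `z0 = [u, h^(q-1) u h^-(q-1)]` (`= x(γ₀)`, a generator of the long root group). -/
def z0 (q : ℕ) (u h : G) : G := cm u (cj h u ((q : ℤ) - 1))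

end Words

section Free

/-- substitute `(z0, h^(q+1), w)` for the three letters: the word `r` of `SL₂(K)` read in `L`. -/
def subL (q : ℕ) (r : FreeGroup (Fin 3)) : FreeGroup (Fin 3) :=
  ev (z0 q gU gH) (gH ^ (q + 1)) gW r

/-- substitute `(u, h, 1)`: a word in `u`, `h` only. -/
def subB (r : FreeGroup (Fin 3)) : FreeGroup (Fin 3) := ev gU gH 1 r

end Free

section Consts

/-- structure constants of the `B`-part, generic scheme (`q ∉ {2, 5, 8}`). -/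
structure ConstsB (K : Type u) [Field K] (p : ℕ) where
  k : ℤ
  mν : (ZMod p)[X]
  fl : (ZMod p)[X]
  t4 : K
  t6 : K
  t7 : K
  t8 : K

/-- structure constants of the `B`-part, scheme for `q = 8`. -/
structure ConstsB8 (K : Type u) [Field K] where
  mα : (ZMod 2)[X]
  t4 : K
  s1 : K
  s2 : K
  s3 : K
  s4 : K
  s5 : K
  t8 : K

/-- structure constants of the orbit relations. -/
structure ConstsO (K : Type u) [Field K] where
  gc : SL2 K
  wbc : FreeGroup (Fin 3)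
  g1 : SL2 K
  wu1 : FreeGroup (Fin 3)
  wb1 : FreeGroup (Fin 3)
  g2 : SL2 K
  wu2 : FreeGroup (Fin 3)
  wb2 : FreeGroup (Fin 3)

/-- words of `SL₂(K)` (in the letters `xM 1, hM bK, wM`) for the constants. -/
structure WordsB where
  x4 : FreeGroup (Fin 3)
  x6 : FreeGroup (Fin 3)
  x7 : FreeGroup (Fin 3)
  x8 : FreeGroup (Fin 3)

structure WordsB8 where
  x4 : FreeGroup (Fin 3)
  y1 : FreeGroup (Fin 3)
  y2 : FreeGroup (Fin 3)
  y3 : FreeGroup (Fin 3)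
  y4 : FreeGroup (Fin 3)
  y5 : FreeGroup (Fin 3)
  x8 : FreeGroup (Fin 3)

structure WordsO where
  rc : FreeGroup (Fin 3)
  r1 : FreeGroup (Fin 3)
  r2 : FreeGroup (Fin 3)

end Consts

section Rels

variable {K : Type u} [Field K]

/-- `M`-part: `h z0 h⁻¹ = x(bK)` (`az` the `SL₂`-word of `xM bK`), `w⁻¹ h w = h^(-q)`. -/
def relsM (q : ℕ) (az : FreeGroup (Fin 3)) : List (FreeGroup (Fin 3)) :=
  [cj gH (z0 q gU gH) 1 * (subL q az)⁻¹, gW⁻¹ * gH * gW * gH ^ q]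

/-- `B`-part, generic scheme. -/
def relsB (p q : ℕ) (C : ConstsB K p) (W : WordsB) : List (FreeGroup (Fin 3)) :=
  [cm (z0 q gU gH) gU,
    gU ^ p * (subL q W.x4)⁻¹,
    cj gH gU C.k * (cj gH gU ((q : ℤ) - 1) * gU * subL q W.x6)⁻¹,
    cj gH gU 1 * (pw p gH gU ((q : ℤ) - 1) C.fl * subL q W.x7)⁻¹,
    pw p gH gU ((q : ℤ) - 1) C.mν * (subL q W.x8)⁻¹]

/-- `B`-part, `q = 8`. -/
def relsB8 (q : ℕ) (C : ConstsB8 K) (W : WordsB8) : List (FreeGroup (Fin 3)) :=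
  [gU ^ 2 * (subL q W.x4)⁻¹,
    cm (z0 q gU gH) gU,
    cm (cj gH (z0 q gU gH) 1) gU,
    cm (cj gH (z0 q gU gH) 2) gU,
    cm gU (cj gH gU 1) * (subL q W.y1)⁻¹,
    cm gU (cj gH gU 2) * (subL q W.y2)⁻¹,
    cm gU (cj gH gU 3) * (subL q W.y3)⁻¹,
    cm gU (cj gH gU 4) * (subL q W.y4)⁻¹,
    cm gU (cj gH gU 5) * (subL q W.y5)⁻¹,
    pw 2 gH gU 1 C.mα * (subL q W.x8)⁻¹]

/-- orbit part: (IV) `ĉ = φ(gc) h` fixes the point `u w B`; (III) `φ(g_j) u w B = u_j w B`. -/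
def relsO (q : ℕ) (C : ConstsO K) (W : WordsO) : List (FreeGroup (Fin 3)) :=
  [subL q W.rc * gH * gU * gW * (gU * gW * subB C.wbc)⁻¹,
    subL q W.r1 * gU * gW * (subB C.wu1 * gW * subB C.wb1)⁻¹,
    subL q W.r2 * gU * gW * (subB C.wu2 * gW * subB C.wb2)⁻¹]

/-- all relators, generic scheme (`Lsl` the `SL₂(K)` relators of `sl_hom`). -/
def relsAll (p q : ℕ) (Lsl : List (FreeGroup (Fin 3))) (az : FreeGroup (Fin 3)) (CB : ConstsB K p)
    (WB : WordsB) (CO : ConstsO K) (WO : WordsO) : List (FreeGroup (Fin 3)) :=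
  Lsl.map (subL q) ++ relsM q az ++ relsB p q CB WB ++ relsO q CO WO

/-- all relators, `q = 8`. -/
def relsAll8 (q : ℕ) (Lsl : List (FreeGroup (Fin 3))) (az : FreeGroup (Fin 3)) (CB : ConstsB8 K)
    (WB : WordsB8) (CO : ConstsO K) (WO : WordsO) : List (FreeGroup (Fin 3)) :=
  Lsl.map (subL q) ++ relsM q az ++ relsB8 q CB WB ++ relsO q CO WO

variable {G : Type v} [Group G]

/-- the relations of the `M`-part in a group `G` with a homomorphism `φ : SL₂(K) →* G`. -/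
structure RelM (q : ℕ) (bK : Kˣ) (φ : SL2 K →* G) (u h w : G) : Prop where
  phi_x : φ (xM 1) = z0 q u h
  phi_h : φ (hM bK) = h ^ (q + 1)
  phi_w : φ wM = w
  m1 : h * φ (xM 1) * h⁻¹ = φ (xM (bK : K))
  m2 : w⁻¹ * h * w = h ^ (-(q : ℤ))

/-- the relations of the `B`-part, generic scheme. -/
structure RelB (p q : ℕ) (φ : SL2 K →* G) (u h : G) (C : ConstsB K p) : Prop where
  b1 : Commute (φ (xM 1)) u
  b4 : u ^ p = φ (xM C.t4)
  b6 : cj h u C.k = cj h u ((q : ℤ) - 1) * u * φ (xM C.t6)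
  b7 : cj h u 1 = pw p h u ((q : ℤ) - 1) C.fl * φ (xM C.t7)
  b8 : pw p h u ((q : ℤ) - 1) C.mν = φ (xM C.t8)

/-- the relations of the `B`-part, `q = 8`. -/
structure RelB8 (φ : SL2 K →* G) (u h : G) (C : ConstsB8 K) : Prop where
  b4 : u ^ 2 = φ (xM C.t4)
  c0 : Commute (φ (xM 1)) u
  c1 : Commute (cj h (φ (xM 1)) 1) u
  c2 : Commute (cj h (φ (xM 1)) 2) u
  k1 : cm u (cj h u 1) = φ (xM C.s1)
  k2 : cm u (cj h u 2) = φ (xM C.s2)
  k3 : cm u (cj h u 3) = φ (xM C.s3)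
  k4 : cm u (cj h u 4) = φ (xM C.s4)
  k5 : cm u (cj h u 5) = φ (xM C.s5)
  b8 : pw 2 h u 1 C.mα = φ (xM C.t8)

/-- the orbit relations. -/
structure RelO (φ : SL2 K →* G) (u h w : G) (C : ConstsO K) : Prop where
  o4 : φ C.gc * h * u * w = u * w * ev u h 1 C.wbc
  o1 : φ C.g1 * u * w = ev u h 1 C.wu1 * w * ev u h 1 C.wb1
  o2 : φ C.g2 * u * w = ev u h 1 C.wu2 * w * ev u h 1 C.wb2

/-- the facts about the model group `S` (`= SU₃(q)` with `π u = a`, `π h = b`, `π w = c`) used by the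
coset count: `B_S = closure {a, b}` has at least `q³(q²-1)` elements, `US` (the unitriangular elements)
has `q³` elements, `B_S = US ⋊ ⟨b⟩`, Bruhat uniqueness, and the `H`-orbit representatives
`a, a₁, a₂` on `US ∖ Z`. -/
structure Model {S : Type v} [Group S] (q : ℕ) (ρ : SL2 K →* S) (a b c : S) (US : Subgroup S)
    (C : ConstsO K) : Prop where
  card_B : q ^ 3 * (q ^ 2 - 1) ≤ Nat.card ↥(Subgroup.closure ({a, b} : Set S))
  US_le : US ≤ Subgroup.closure ({a, b} : Set S)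
  card_US : Nat.card ↥US = q ^ 3
  B_eq : ∀ g ∈ Subgroup.closure ({a, b} : Set S), ∃ x ∈ US, ∃ i : ℤ, g = x * b ^ i
  bruhat : ∀ x ∈ US, c⁻¹ * x * c ∈ Subgroup.closure ({a, b} : Set S) → x = 1
  Z_le : ∀ t : K, ρ (xM t) ∈ US
  reps : ∀ x ∈ US, (∀ t : K, x ≠ ρ (xM t)) → ∃ (t : K) (i : ℤ) (y : S),
    (y = a ∨ y = ev a b 1 C.wu1 ∨ y = ev a b 1 C.wu2) ∧ x = ρ (xM t) * b ^ i * y * b ^ (-i)
  ord_c : q + 1 ≤ orderOf (ρ C.gc * b)

/-- the words `W` realise the constants `C` in `SL₂(K)` (letters `xM 1`, `hM bK`, `wM`). -/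
structure OkB {p : ℕ} (bK : Kˣ) (C : ConstsB K p) (W : WordsB) : Prop where
  h4 : ev (xM (1 : K)) (hM bK) wM W.x4 = xM C.t4
  h6 : ev (xM (1 : K)) (hM bK) wM W.x6 = xM C.t6
  h7 : ev (xM (1 : K)) (hM bK) wM W.x7 = xM C.t7
  h8 : ev (xM (1 : K)) (hM bK) wM W.x8 = xM C.t8

structure OkB8 (bK : Kˣ) (C : ConstsB8 K) (W : WordsB8) : Prop where
  h4 : ev (xM (1 : K)) (hM bK) wM W.x4 = xM C.t4
  h1 : ev (xM (1 : K)) (hM bK) wM W.y1 = xM C.s1
  h2 : ev (xM (1 : K)) (hM bK) wM W.y2 = xM C.s2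
  h3 : ev (xM (1 : K)) (hM bK) wM W.y3 = xM C.s3
  h4' : ev (xM (1 : K)) (hM bK) wM W.y4 = xM C.s4
  h5 : ev (xM (1 : K)) (hM bK) wM W.y5 = xM C.s5
  h8 : ev (xM (1 : K)) (hM bK) wM W.x8 = xM C.t8

structure OkO (bK : Kˣ) (C : ConstsO K) (W : WordsO) : Prop where
  hc : ev (xM (1 : K)) (hM bK) wM W.rc = C.gc
  h1 : ev (xM (1 : K)) (hM bK) wM W.r1 = C.g1
  h2 : ev (xM (1 : K)) (hM bK) wM W.r2 = C.g2

/-- the setting of the coset count: an abstract group `G = ⟨u, h, w⟩` over the model `S`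
(`π : G →* S`), with `φ : SL₂(K) →* G`, the `M`- and orbit relations, and the bounds for
`B̂ = closure {u, h}` and `M̂ = closure {z0, h, w}`. -/
structure Ctx [Fintype K] {S : Type v} [Group S] {G : Type} [Group G] (q : ℕ) (bK : Kˣ)
    (ρ : SL2 K →* S) (a b c : S) (US : Subgroup S) (C : ConstsO K) (π : G →* S) (φ : SL2 K →* G)
    (u h w : G) : Prop where
  hq : 2 ≤ q
  hK : Fintype.card K = q
  hbK : ∀ y : Kˣ, y ∈ Subgroup.zpowers bK
  mod : Model q ρ a b c US C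
  relS : RelM q bK ρ a b c
  hu : π u = a
  hh : π h = b
  hw : π w = c
  hgen : Subgroup.closure ({u, h, w} : Set G) = ⊤
  relM : RelM q bK φ u h w
  relO : RelO φ u h w C
  finB : Finite ↥(Subgroup.closure ({u, h} : Set G))
  cardB : Nat.card ↥(Subgroup.closure ({u, h} : Set G)) ≤ q ^ 3 * (q ^ 2 - 1)
  ZB : ∀ t : K, φ (xM t) ∈ Subgroup.closure ({u, h} : Set G)
  finM : Finite ↥(Subgroup.closure ({z0 q u h, h, w} : Set G))
  cardM : Nat.card ↥(Subgroup.closure ({z0 q u h, h, w} : Set G)) ≤ q * (q ^ 2 - 1) * (q + 1)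

/-- `Û`: the elements of `B̂` over `US`. -/
def Uhat {S : Type v} [Group S] {G : Type} [Group G] (US : Subgroup S) (π : G →* S) (u h : G) :
    Set G := {g | g ∈ Subgroup.closure ({u, h} : Set G) ∧ π g ∈ US}

end Rels

section Mat

variable {F : Type u} [Field F] {K : Type u} [Field K]

/-- the Weyl element `antidiag(γ, 1, -γ⁻¹)` (`J`-unitary when `σ γ = -γ`). -/
def wJ (γ : F) : Matrix (Fin 3) (Fin 3) F := !![0, 0, γ; 0, 1, 0; -γ⁻¹, 0, 0]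

/-- the embedding `SL₂(K) → SU₃`: `[[A,B],[C,D]] ↦ [[A,0,γB],[0,1,0],[γ⁻¹C,0,D]]`. -/
def rhoM (ι : K →+* F) (γ : F) (g : SL2 K) : Matrix (Fin 3) (Fin 3) F :=
  !![ι (g.1 0 0), 0, γ * ι (g.1 0 1); 0, 1, 0; γ⁻¹ * ι (g.1 1 0), 0, ι (g.1 1 1)]

/-- the parameters: Frobenius `σ`, hyperbolic coordinates `c`, the fixed field `K` of `σ` (through `ι`),
a generator `ζ` of `Fˣ`, the generator `bK = ζ^(q+1)` of `Kˣ`, and `β₀` with `β₀ + σ β₀ + 1 = 0`. -/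
structure Par (F : Type u) [Field F] (K : Type u) [Field K] (q : ℕ) where
  σ : F →+* F
  hσ : ∀ x, σ x = x ^ q
  c : Coords F q σ
  ι : K →+* F
  hι : ∀ x : F, σ x = x ↔ ∃ y : K, ι y = x
  ζ : Fˣ
  hζ : ∀ y : Fˣ, y ∈ Subgroup.zpowers ζ
  bK : Kˣ
  hbK : ι (bK : K) = (ζ : F) * σ (ζ : F)
  hbKgen : ∀ y : Kˣ, y ∈ Subgroup.zpowers bK
  β0 : F
  hβ0 : β0 + σ β0 + 1 = 0

namespace Par

variable {q : ℕ} (D : Par F K q)

/-- `h u(α,β) h⁻¹ = u(al α, bl β)`. -/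
def al : F := (D.ζ : F) ^ 2 / D.σ (D.ζ : F)

def bl : F := (D.ζ : F) * D.σ (D.ζ : F)

/-- `ν = al^(q-1)`: the action of `h^(q-1)` on `U/Z` (it centralises `Z`). -/
def nu : F := D.al ^ (q - 1)

/-- `z0 = x(γ₀)`. -/
def γ0 : F := D.nu - D.σ D.nu

end Par

/-- `a b c ρ` are the generators and the embedding of `SL₂(K)`, in the coordinates `D.c`. -/
structure Gens {q : ℕ} (D : Par F K q) (a b c : ↥(Cfsg.SU 3 F q)) (ρ : SL2 K →* ↥(Cfsg.SU 3 F q)) :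
    Prop where
  ha : D.c.cj a = uu D.σ 1 D.β0
  hb : D.c.cj b = dd D.σ (D.ζ : F)
  hc : D.c.cj c = wJ D.γ0
  hρ : ∀ g : SL2 K, D.c.cj (ρ g) = rhoM D.ι D.γ0 g

end Mat

end Cfsg.Agent.Lib.Helper19.U3P
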